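import Cfsg.Prelude.Def_Classical
import Cfsg.Prelude.Def_LieClassical

/-!
Field embeddings `F_q → F_{q²}`, restriction of scalars for matrix groups, and homomorphisms between
isometry groups induced by linear changes of variables.
-/

set_option autoImplicit false

namespace CfsgLib.FieldEmb

open scoped Matrix

section fields

variable {F K : Type*} [Field F] [Fintype F] [Field K] [Fintype K]

theorem exists_ringHom {q n : ℕ} (hn : 1 ≤ n) (hF : Fintype.card F = q) (hK : Fintype.card K = q ^ n) :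
    Nonempty (F →+* K) := by
  obtain ⟨p, hp⟩ := CharP.exists F
  obtain ⟨a, hpp, hcard⟩ := FiniteField.card F p
  haveI : Fact p.Prime := ⟨hpp⟩
  haveI : CharP K p := by
    obtain ⟨p', hp'⟩ := CharP.exists K
    obtain ⟨b, hpp', hcard'⟩ := FiniteField.card K p'
    have h1 : p' ∣ p ^ ((a : ℕ) * n) := by
      rw [pow_mul, ← hcard, hF, ← hK, hcard']
      exact dvd_pow_self _ b.ne_zero
    have := (Nat.prime_dvd_prime_iff_eq hpp' hpp).1 (hpp'.dvd_of_dvd_pow h1)
    exact this ▸ hp'
  letI := ZMod.algebra F p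
  letI := ZMod.algebra K p
  have hFd : Fintype.card F = p ^ Module.finrank (ZMod p) F := by
    rw [Module.card_eq_pow_finrank (K := ZMod p), ZMod.card]
  have hKd : Fintype.card K = p ^ Module.finrank (ZMod p) K := by
    rw [Module.card_eq_pow_finrank (K := ZMod p), ZMod.card]
  have hdvd : Module.finrank (ZMod p) F ∣ Module.finrank (ZMod p) K := by
    refine ⟨n, Nat.pow_right_injective hpp.two_le ?_⟩
    show p ^ _ = p ^ _
    rw [← hKd, hK, pow_mul, ← hFd, hF]
  obtain ⟨f⟩ := FiniteField.nonempty_algHom_of_finrank_dvd hdvd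
  exact ⟨f.toRingHom⟩

theorem finrank_eq [Algebra F K] {q n : ℕ} (hF : Fintype.card F = q) (hK : Fintype.card K = q ^ n) :
    Module.finrank F K = n := by
  refine Nat.pow_right_injective (Fintype.one_lt_card (α := F)) ?_
  show Fintype.card F ^ _ = Fintype.card F ^ _
  rw [← Module.card_eq_pow_finrank (K := F) (V := K), hF, hK]

theorem mem_range_iff (ι : F →+* K) {q : ℕ} (hF : Fintype.card F = q) (x : K) :
    x ∈ Set.range ι ↔ x ^ q = x := by
  classical
  open Polynomial in
  constructor
  · rintro ⟨y, rfl⟩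
    rw [← map_pow, ← hF, FiniteField.pow_card]
  · intro hx
    have hq : 1 < q := hF ▸ Fintype.one_lt_card
    have hne : (X ^ q - X : K[X]) ≠ 0 := FiniteField.X_pow_card_sub_X_ne_zero K hq
    have hsub : Finset.univ.image ι ⊆ (X ^ q - X : K[X]).roots.toFinset := by
      intro z hz
      obtain ⟨y, -, rfl⟩ := Finset.mem_image.1 hz
      rw [Multiset.mem_toFinset, mem_roots hne, IsRoot, eval_sub, eval_pow, eval_X, ← map_pow, ← hF,
        FiniteField.pow_card, sub_self]
    have heq := Finset.eq_of_subset_of_card_le hsub (by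
      rw [Finset.card_image_of_injective _ ι.injective, Finset.card_univ, hF]
      refine (Multiset.toFinset_card_le _).trans ((card_roots' _).trans ?_)
      rw [FiniteField.X_pow_card_sub_X_natDegree_eq K hq])
    have : x ∈ Finset.univ.image ι := by
      rw [heq]
      simp [mem_roots hne, hx]
    obtain ⟨y, -, hy⟩ := Finset.mem_image.1 this
    exact ⟨y, hy⟩

/-- The `q`-th power map as a ring automorphism when the field has `q ^ 2` elements. -/
theorem exists_conj {q : ℕ} (hK : Fintype.card K = q ^ 2) :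
    ∃ σ : K →+* K, (∀ x, σ x = x ^ q) ∧ ∀ x, σ (σ x) = x := by
  obtain ⟨p, hp⟩ := CharP.exists K
  obtain ⟨b, hpp, hcard⟩ := FiniteField.card K p
  haveI : Fact p.Prime := ⟨hpp⟩
  obtain ⟨a, -, ha⟩ := (Nat.dvd_prime_pow hpp).1 (hcard ▸ hK ▸ dvd_pow_self q two_ne_zero)
  refine ⟨iterateFrobenius K p a, fun x => by rw [iterateFrobenius_def, ← ha], fun x => ?_⟩
  rw [iterateFrobenius_def, iterateFrobenius_def, ← ha, ← pow_mul, ← pow_two, ← hK, FiniteField.pow_card]

theorem exists_algebra {q n : ℕ} (hn : 1 ≤ n) (hF : Fintype.card F = q) (hK : Fintype.card K = q ^ n) :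
    Nonempty (Algebra F K) :=
  (exists_ringHom hn hF hK).map RingHom.toAlgebra

end fields

section isometry

variable {F : Type*} [Field F] {ι κ : Type} [Fintype ι] [DecidableEq ι] [Fintype κ] [DecidableEq κ]

theorem mem_isometryGroup {Q : (ι → F) → F} {g : GL ι F} :
    g ∈ Cfsg.isometryGroup F Q ↔ ∀ v, Q ((g : Matrix ι ι F) *ᵥ v) = Q v :=
  ⟨fun h v => h v v, fun h u _ => h u⟩

/-- An equivalence of forms induces an injective homomorphism of isometry groups. -/
theorem exists_hom_of_equiv (Q₁ : (ι → F) → F) (Q₂ : (κ → F) → F) (e : (ι → F) ≃ₗ[F] (κ → F))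
    (he : ∀ v, Q₂ (e v) = Q₁ v) :
    ∃ φ : ↥(Cfsg.isometryGroup F Q₁) →* ↥(Cfsg.isometryGroup F Q₂), Function.Injective φ := by
  let E : Matrix ι ι F ≃* Matrix κ κ F :=
    (Matrix.toLinAlgEquiv' (R := F) (n := ι)).toMulEquiv.trans
      ((LinearEquiv.conjRingEquiv e).toMulEquiv.trans
        (Matrix.toLinAlgEquiv' (R := F) (n := κ)).toMulEquiv.symm)
  have hE : ∀ (M : Matrix ι ι F) (v : κ → F), E M *ᵥ v = e (M *ᵥ e.symm v) := by
    intro M v
    simp only [E, MulEquiv.trans_apply]
    show (Matrix.toLinAlgEquiv' (R := F) (n := κ)).symm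
      (LinearEquiv.conjRingEquiv e (Matrix.toLinAlgEquiv' M)) *ᵥ v = _
    rw [← Matrix.toLinAlgEquiv'_apply, AlgEquiv.apply_symm_apply]
    simp
  refine ⟨((Units.map E.toMonoidHom).comp (Cfsg.isometryGroup F Q₁).subtype).codRestrict _ fun g => ?_,
    fun g h hgh => ?_⟩
  · rw [mem_isometryGroup]
    intro v
    show Q₂ (E ((g : GL ι F) : Matrix ι ι F) *ᵥ v) = Q₂ v
    rw [hE, he, mem_isometryGroup.1 g.2, ← he, LinearEquiv.apply_symm_apply]
  · have := congrArg (fun x : ↥(Cfsg.isometryGroup F Q₂) => ((x : GL κ F) : Matrix κ κ F)) hgh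
    exact Subtype.ext (Units.ext (E.injective this))

end isometry

section restrict

variable {F K : Type*} [Field F] [Field K] [Algebra F K] {ι κ : Type} [Fintype ι] [DecidableEq ι]
  [Fintype κ] [DecidableEq κ]

/-- Restriction of scalars of matrices along an `F`-linear identification. -/
noncomputable def restrictMat (e : (ι → K) ≃ₗ[F] (κ → F)) : Matrix ι ι K →* Matrix κ κ F where
  toFun M := LinearMap.toMatrix' ((e.toLinearMap ∘ₗ (Matrix.toLin' M).restrictScalars F) ∘ₗ e.symm.toLinearMap)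
  map_one' := by
    rw [Matrix.toLin'_one]
    convert LinearMap.toMatrix'_id using 2
    exact LinearMap.ext fun v => e.apply_symm_apply v
  map_mul' M N := by
    rw [← LinearMap.toMatrix'_comp]
    congr 1
    refine LinearMap.ext fun v => ?_
    simp [Matrix.toLin'_mul]

theorem restrictMat_mulVec (e : (ι → K) ≃ₗ[F] (κ → F)) (M : Matrix ι ι K) (v : κ → F) :
    restrictMat e M *ᵥ v = e (M *ᵥ e.symm v) := by
  simp [restrictMat, LinearMap.toMatrix'_mulVec]

theorem restrictMat_injective (e : (ι → K) ≃ₗ[F] (κ → F)) : Function.Injective (restrictMat e) := by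
  intro M N h
  refine Matrix.toLin'.injective (LinearMap.ext fun v => ?_)
  have := congrArg (fun A => A *ᵥ e v) h
  simpa [restrictMat_mulVec] using this

end restrict

section quadratic

variable {F : Type*} [CommRing F] {ι : Type*} [Fintype ι] [DecidableEq ι]

theorem dot_conj (A g : Matrix ι ι F) (v : ι → F) :
    (g *ᵥ v) ⬝ᵥ A *ᵥ (g *ᵥ v) = v ⬝ᵥ (gᵀ * A * g) *ᵥ v := by
  rw [← Matrix.mulVec_mulVec, ← Matrix.mulVec_mulVec, Matrix.dotProduct_mulVec v gᵀ, Matrix.vecMul_transpose]

/-- A matrix identity `vᵀ D v = 0` on all vectors persists after change of rings. -/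
theorem quad_zero_map {K : Type*} [CommRing K] (f : F →+* K) (D : Matrix ι ι F)
    (h : ∀ v : ι → F, v ⬝ᵥ D *ᵥ v = 0) (w : ι → K) : w ⬝ᵥ D.map f *ᵥ w = 0 := by
  have hdiag : ∀ i, D i i = 0 := fun i => by
    simpa using h (Pi.single i 1)
  have hskew : ∀ i j, D i j + D j i = 0 := fun i j => by
    have := h (Pi.single i 1 + Pi.single j 1)
    simp [Matrix.mulVec_add, dotProduct_add, add_dotProduct, hdiag] at this
    linear_combination this
  have hexp : w ⬝ᵥ D.map f *ᵥ w = ∑ p : ι × ι, w p.1 * f (D p.1 p.2) * w p.2 := by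
    simp [dotProduct, Matrix.mulVec, Finset.mul_sum, Fintype.sum_prod_type, mul_assoc]
  rw [hexp]
  refine Finset.sum_ninvolution Prod.swap ?_ ?_ (fun _ => Finset.mem_univ _) Prod.swap_swap
  · rintro ⟨i, j⟩
    have := congrArg f (hskew i j)
    rw [map_add, map_zero] at this
    show w i * f (D i j) * w j + w j * f (D j i) * w i = 0
    linear_combination (w i * w j) * this
  · rintro ⟨i, j⟩ hne heq
    have h1 : j = i := congrArg Prod.fst heq
    subst h1
    simp [hdiag] at hne

/-- Isometries of a quadratic form given by a matrix stay isometries after extension of scalars. -/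
theorem isometry_map {K : Type*} [CommRing K] (f : F →+* K) (A g : Matrix ι ι F)
    (h : ∀ v : ι → F, (g *ᵥ v) ⬝ᵥ A *ᵥ (g *ᵥ v) = v ⬝ᵥ A *ᵥ v) (w : ι → K) :
    (g.map f *ᵥ w) ⬝ᵥ A.map f *ᵥ (g.map f *ᵥ w) = w ⬝ᵥ A.map f *ᵥ w := by
  have := quad_zero_map f (gᵀ * A * g - A) (fun v => by
    rw [Matrix.sub_mulVec, dotProduct_sub, ← dot_conj, h, sub_self]) w
  rw [Matrix.map_sub _ (map_sub f), Matrix.map_mul, Matrix.map_mul, Matrix.transpose_map,
    Matrix.sub_mulVec, dotProduct_sub, sub_eq_zero] at this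
  rw [dot_conj]
  exact this

end quadratic

end CfsgLib.FieldEmb
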