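import Cfsg.Agent.FieldEmb.Basic

/-!
The extension `F_{q²} / F_q`: conjugation, trace, norm, dual bases, roots of anisotropic binary forms.
-/

set_option autoImplicit false

namespace CfsgLib.FieldEmb

open Module Polynomial

variable {F K : Type*} [Field F] [Fintype F] [Field K] [Fintype K] [Algebra F K] {q : ℕ}

theorem pow_q_fixed (hF : Fintype.card F = q) (x : F) : (algebraMap F K x) ^ q = algebraMap F K x := by
  rw [← map_pow, ← hF, FiniteField.pow_card]

theorem exists_of_fixed (hF : Fintype.card F = q) {x : K} (hx : x ^ q = x) : ∃ y, algebraMap F K y = x :=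
  (mem_range_iff (algebraMap F K) hF x).2 hx

theorem one_lt_q (hF : Fintype.card F = q) : 1 < q := hF ▸ Fintype.one_lt_card

theorem exists_not_fixed (hF : Fintype.card F = q) (hK : Fintype.card K = q ^ 2) : ∃ x : K, x ^ q ≠ x := by
  by_contra h
  push Not at h
  have := Fintype.card_le_of_surjective (algebraMap F K) fun x => exists_of_fixed hF (h x)
  have h1 := one_lt_q hF
  rw [hF, hK, pow_two] at this
  nlinarith

theorem pow_q_pow_q (hK : Fintype.card K = q ^ 2) (x : K) : (x ^ q) ^ q = x := by
  rw [← pow_mul, ← pow_two, ← hK, FiniteField.pow_card]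

/-- The trace `x + x^q` as an `F`-linear functional. -/
theorem exists_trace (hF : Fintype.card F = q) (hK : Fintype.card K = q ^ 2) :
    ∃ T : K →ₗ[F] F, (∀ x, algebraMap F K (T x) = x + x ^ q) ∧ T ≠ 0 := by
  obtain ⟨σ, hσ, hσσ⟩ := exists_conj hK
  have hmem : ∀ x : K, ∃ y, algebraMap F K y = x + x ^ q := fun x => exists_of_fixed hF (by
    rw [← hσ, ← hσ, map_add, hσσ, add_comm])
  choose T hT using hmem
  let T' : K →ₗ[F] F :=
    { toFun := T
      map_add' := fun x y => (algebraMap F K).injective (by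
        rw [map_add, hT, hT, hT, ← hσ, ← hσ, ← hσ, map_add]; ring)
      map_smul' := fun c x => (algebraMap F K).injective (by
        simp only [RingHom.id_apply, smul_eq_mul, map_mul, hT]
        rw [Algebra.smul_def, mul_pow, pow_q_fixed hF]; ring) }
  refine ⟨T', hT, fun h0 => ?_⟩
  have hneg : ∀ x : K, x ^ q = -x := fun x => by
    have := hT x
    rw [show T x = 0 from LinearMap.congr_fun h0 x, map_zero] at this
    exact eq_neg_of_add_eq_zero_right this.symm
  obtain ⟨x, hx⟩ := exists_not_fixed hF hK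
  have h1 : (1 : K) = -1 := by simpa using hneg 1
  exact hx (by rw [hneg x]; linear_combination (-x) * h1)

/-- Every element of the small field is a norm `x * x^q`. -/
theorem exists_norm_eq (hF : Fintype.card F = q) (hK : Fintype.card K = q ^ 2) (c : F) :
    ∃ x : K, x * x ^ q = algebraMap F K c := by
  classical
  have hq := one_lt_q hF
  rcases eq_or_ne c 0 with rfl | hc
  · exact ⟨0, by simp⟩
  let N : Kˣ →* Kˣ := powMonoidHom (q + 1)
  have hker : Nat.card N.ker ≤ q + 1 := by
    have hsub : ∀ u : N.ker, ((u : Kˣ) : K) ∈ (X ^ (q + 1) - C 1 : K[X]).roots.toFinset := fun u => by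
      have hu : (u : Kˣ) ^ (q + 1) = 1 := u.2
      have hu' := congrArg Units.val hu
      rw [Units.val_pow_eq_pow_val, Units.val_one] at hu'
      rw [Multiset.mem_toFinset, mem_roots (X_pow_sub_C_ne_zero (by omega) 1), IsRoot, eval_sub, eval_pow,
        eval_X, eval_C, hu', sub_self]
    refine (Nat.card_le_card_of_injective (fun u : N.ker => (⟨_, hsub u⟩ : (X ^ (q + 1) - C 1 : K[X]).roots.toFinset))
      fun u v h => Subtype.ext (Units.ext (congrArg Subtype.val h))).trans ?_
    rw [Nat.card_eq_fintype_card, Fintype.card_coe]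
    refine (Multiset.toFinset_card_le _).trans ((card_roots' _).trans ?_)
    rw [natDegree_X_pow_sub_C]
  have hmul := Subgroup.index_mul_card N.ker
  rw [Subgroup.index_ker, Nat.card_units, Nat.card_eq_fintype_card (α := K), hK] at hmul
  have hrange : q - 1 ≤ Nat.card N.range := by
    by_contra hlt
    push Not at hlt
    have h1 : Nat.card N.range * Nat.card N.ker ≤ (q - 2) * (q + 1) := Nat.mul_le_mul (by omega) hker
    obtain ⟨k, rfl⟩ : ∃ k, q = k + 2 := ⟨q - 2, by omega⟩
    have h2 : (k + 2) ^ 2 - 1 = (k + 1) * (k + 3) := by rw [Nat.sub_eq_of_eq_add]; ring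
    simp only [Nat.add_sub_cancel] at h1
    nlinarith
  let img : Finset K := Finset.univ.image fun u : N.range => ((u : Kˣ) : K)
  let tgt : Finset K := (Finset.univ.erase (0 : F)).image (algebraMap F K)
  have hsub : img ⊆ tgt := by
    intro y hy
    obtain ⟨⟨u, v, rfl⟩, -, rfl⟩ := Finset.mem_image.1 hy
    obtain ⟨y, hy⟩ := exists_of_fixed (x := ((v : K)) ^ (q + 1)) hF (by
      rw [pow_succ (v : K) q, mul_pow, pow_q_pow_q hK, mul_comm])
    refine Finset.mem_image.2 ⟨y, Finset.mem_erase.2 ⟨fun h => ?_, Finset.mem_univ _⟩, by simp [N, hy]⟩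
    rw [h, map_zero] at hy
    exact pow_ne_zero _ v.ne_zero hy.symm
  have heq := Finset.eq_of_subset_of_card_le hsub (by
    rw [Finset.card_image_of_injective _ (algebraMap F K).injective,
      Finset.card_image_of_injective _ (fun u v h => Subtype.ext (Units.ext h)),
      Finset.card_erase_of_mem (Finset.mem_univ _), Finset.card_univ, Finset.card_univ, hF,
      ← Nat.card_eq_fintype_card]
    exact hrange)
  have hc' : algebraMap F K c ∈ img := by
    rw [heq]; exact Finset.mem_image.2 ⟨c, by simp [hc], rfl⟩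
  obtain ⟨⟨u, v, rfl⟩, -, hv⟩ := Finset.mem_image.1 hc'
  exact ⟨v, by rw [← hv]; simp [N, pow_succ']⟩

/-- Dual pair of bases with respect to a nonzero functional of the field. -/
theorem exists_dual_bases (hF : Fintype.card F = q) (hK : Fintype.card K = q ^ 2) {T : K →ₗ[F] F} (hT : T ≠ 0) :
    ∃ b d : Basis (Fin 2) F K, ∀ i j, T (b i * d j) = if i = j then 1 else 0 := by
  haveI : FiniteDimensional F K := Module.Finite.of_finite
  have hfr : finrank F K = 2 := finrank_eq hF hK
  let b : Basis (Fin 2) F K := Module.finBasisOfFinrankEq F K hfr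
  let D : K →ₗ[F] (Fin 2 → F) :=
    { toFun := fun y i => T (b i * y)
      map_add' := fun y z => by ext i; simp [mul_add]
      map_smul' := fun c y => by ext i; simp }
  have hD : Function.Injective D := by
    rw [injective_iff_map_eq_zero]
    intro y hy
    by_contra hy0
    refine hT (LinearMap.ext fun z => ?_)
    have hsum : z / y = ∑ i, b.repr (z / y) i • b i := (b.sum_repr _).symm
    have hz : z = z / y * y := by rw [div_mul_cancel₀ _ hy0]
    rw [hz, hsum, Finset.sum_mul, map_sum, LinearMap.zero_apply]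
    refine Finset.sum_eq_zero fun i _ => ?_
    rw [smul_mul_assoc, map_smul, show T (b i * y) = 0 from congrFun hy i, smul_zero]
  let e : K ≃ₗ[F] (Fin 2 → F) := LinearEquiv.ofBijective D ⟨hD, (LinearMap.injective_iff_surjective_of_finrank_eq_finrank
    (by simp [hfr])).1 hD⟩
  refine ⟨b, Basis.ofEquivFun e, fun i j => ?_⟩
  have := congrFun (show D ((Basis.ofEquivFun e) j) = e ((Basis.ofEquivFun e) j) from rfl) i
  simpa [D, Basis.coe_ofEquivFun, Pi.single_apply] using this

/-- The roots in `K` of an anisotropic binary form over `F`. -/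
theorem exists_split (hF : Fintype.card F = q) (hK : Fintype.card K = q ^ 2) (a c : F)
    (hac : ∀ z₁ z₂ : F, z₁ ^ 2 + a * z₁ * z₂ + c * z₂ ^ 2 = 0 → z₁ = 0 ∧ z₂ = 0) :
    ∃ θ : K, θ + θ ^ q = algebraMap F K a ∧ θ * θ ^ q = algebraMap F K c ∧ θ ^ q ≠ θ := by
  haveI : FiniteDimensional F K := Module.Finite.of_finite
  let f : F[X] := X ^ 2 - C a * X + C c
  have hdeg : f.natDegree = 2 := by simp only [f]; compute_degree!
  have hnoroot : ∀ z, f.eval z ≠ 0 := by
    intro z hz
    simp only [f, eval_add, eval_sub, eval_pow, eval_mul, eval_C, eval_X] at hz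
    exact one_ne_zero ((hac (-z) 1 (by linear_combination hz)).2)
  have hirr : Irreducible f := by
    rw [Polynomial.irreducible_iff_roots_eq_zero_of_degree_le_three (by omega) (by omega),
      Multiset.eq_zero_iff_forall_notMem]
    intro z hz
    exact hnoroot z (isRoot_of_mem_roots hz)
  haveI : Fact (Irreducible f) := ⟨hirr⟩
  have hfr : finrank F (AdjoinRoot f) = 2 := by
    rw [(AdjoinRoot.powerBasis hirr.ne_zero).finrank, AdjoinRoot.powerBasis_dim, hdeg]
  obtain ⟨φ⟩ := FiniteField.nonempty_algHom_of_finrank_dvd (F := F) (K := AdjoinRoot f) (L := K)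
    (by rw [hfr, finrank_eq hF hK])
  set θ := φ (AdjoinRoot.root f) with hθdef
  have hθ : θ ^ 2 - algebraMap F K a * θ + algebraMap F K c = 0 := by
    have h0 : aeval (AdjoinRoot.root f) f = 0 := by rw [AdjoinRoot.aeval_eq, AdjoinRoot.mk_self]
    have := congrArg φ h0
    rw [← aeval_algHom_apply, map_zero, ← hθdef] at this
    simpa [f] using this
  obtain ⟨σ, hσ, -⟩ := exists_conj hK
  have hne : θ ^ q ≠ θ := by
    intro h
    obtain ⟨y, hy⟩ := exists_of_fixed hF h
    exact hnoroot y ((algebraMap F K).injective (by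
      rw [map_zero]; simp only [f, eval_add, eval_sub, eval_pow, eval_mul, eval_C, eval_X, map_add,
        map_sub, map_pow, map_mul, hy]; exact hθ))
  have hθq : (θ ^ q) ^ 2 - algebraMap F K a * θ ^ q + algebraMap F K c = 0 := by
    have := congrArg σ hθ
    simp only [map_add, map_sub, map_pow, map_mul, map_zero] at this
    simp only [hσ, pow_q_fixed hF] at this
    exact this
  have hsum : θ + θ ^ q = algebraMap F K a := by
    refine mul_left_cancel₀ (sub_ne_zero.2 hne) ?_
    linear_combination hθq - hθ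
  exact ⟨θ, hsum, by linear_combination θ * hsum - hθ, hne⟩

/-- Membership in the symplectic group from preservation of the alternating form on all vectors. -/
theorem mem_symplectic {l R : Type*} [Fintype l] [DecidableEq l] [CommRing R] {A : Matrix (l ⊕ l) (l ⊕ l) R}
    (h : ∀ u v, (A.mulVec u) ⬝ᵥ (Matrix.J l R).mulVec (A.mulVec v) = u ⬝ᵥ (Matrix.J l R).mulVec v) :
    A ∈ Matrix.symplecticGroup l R := by
  rw [SymplecticGroup.mem_iff']
  ext i j
  have := h (Pi.single i 1) (Pi.single j 1)
  rw [Matrix.mulVec_mulVec, ← Matrix.vecMul_transpose A (Pi.single i 1), ← Matrix.dotProduct_mulVec,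
    Matrix.mulVec_mulVec, ← Matrix.mul_assoc] at this
  simpa using this

/-- The standard alternating form in coordinates. -/
theorem dot_J {l R : Type*} [Fintype l] [DecidableEq l] [CommRing R] (u v : l ⊕ l → R) :
    u ⬝ᵥ (Matrix.J l R).mulVec v = ∑ i, (u (.inr i) * v (.inl i) - u (.inl i) * v (.inr i)) := by
  simp [dotProduct, Matrix.J, Matrix.fromBlocks_mulVec, Finset.sum_sub_distrib, Matrix.one_mulVec, Matrix.neg_mulVec]
  abel

/-- Symplectic matrices preserve the alternating form. -/
theorem preserves_J {l R : Type*} [Fintype l] [DecidableEq l] [CommRing R] {A : Matrix (l ⊕ l) (l ⊕ l) R}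
    (hA : A ∈ Matrix.symplecticGroup l R) (u v : l ⊕ l → R) :
    (A.mulVec u) ⬝ᵥ (Matrix.J l R).mulVec (A.mulVec v) = u ⬝ᵥ (Matrix.J l R).mulVec v := by
  rw [Matrix.mulVec_mulVec, ← Matrix.vecMul_transpose A u, ← Matrix.dotProduct_mulVec, Matrix.mulVec_mulVec,
    ← Matrix.mul_assoc, SymplecticGroup.mem_iff'.1 hA]

end CfsgLib.FieldEmb
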